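import Mathlib

/-!
# S1920, case B, `E₆(q)`, `q ≡ 3 mod 4`: the interface (helper738)

`Rel10 z N0 Q rel` : `rel g M` : `g ∈ C_G(z)` acts on the 10-dimensional quadratic space `V` as `M`, up to scalars.
`Four6` : the final configuration: `V = W₄ ⊥ six lines`, `N0 / <z>` = all even sign changes on the six lines.
-/

set_option autoImplicit false

open QuadraticMap Module

namespace Cfsg.Agent.H738.E6

/-- **The relation between `C_G(z)` and the similitudes of `V10`** -/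
structure Rel10 {G F V : Type*} [Group G] [Field F] [AddCommGroup V] [Module F V] (z : G) (N0 : Subgroup G)
    (Q : QuadraticForm F V) (rel : G → (V ≃ₗ[F] V) → Prop) : Prop where
  two : (2 : F) ≠ 0
  dim : finrank F V = 10
  nd : ∀ v, (∀ w, polar Q v w = 0) → v = 0
  /-- the discriminant is not a square -/
  disc : ∀ e : Fin 10 → V, (∀ i, Q (e i) ≠ 0) → (∀ i j, i ≠ j → polar Q (e i) (e j) = 0) → ¬ IsSquare (∏ i, Q (e i))
  cen : ∀ {g : G} {M : V ≃ₗ[F] V}, rel g M → g * z = z * g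
  ex : ∀ {g : G}, g * z = z * g → ∃ M, rel g M
  mul : ∀ {g h : G} {M N : V ≃ₗ[F] V}, rel g M → rel h N → rel (g * h) (M * N)
  inv : ∀ {g : G} {M : V ≃ₗ[F] V}, rel g M → rel g⁻¹ M⁻¹
  smul : ∀ {g : G} {M N : V ≃ₗ[F] V} (c : F), rel g M → (∀ v, N v = c • M v) → rel g N
  /-- proper similitudes -/
  sim : ∀ {g : G} {M : V ≃ₗ[F] V}, rel g M →
    ∃ μ : F, μ ≠ 0 ∧ (∀ v, Q (M v) = μ * Q v) ∧ LinearMap.det (M : V →ₗ[F] V) = μ ^ 5
  one : ∀ {M : V ≃ₗ[F] V}, rel 1 M → ∃ c : F, ∀ v, M v = c • v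
  zsc : ∀ {M : V ≃ₗ[F] V}, rel z M → ∃ c : F, ∀ v, M v = c • v
  ker : ∀ {g : G}, rel g 1 → ∃ τ : G, Odd (orderOf τ) ∧ (∀ h, h * z = z * h → τ * h = h * τ) ∧ (g = τ ∨ g = τ * z)
  /-- every proper isometry occurs -/
  occ : ∀ M : V ≃ₗ[F] V, (∀ v, Q (M v) = Q v) → LinearMap.det (M : V →ₗ[F] V) = 1 → ∃ g, rel g M
  /-- the elements of `N0` act as involutory isometries -/
  invol : ∀ n ∈ N0, ∃ M : V ≃ₗ[F] V, rel n M ∧ (∀ v, Q (M v) = Q v) ∧ M * M = 1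

/-- **The final configuration**: `V = <w 0, .., w 3> ⊥ <l 0> ⊥ .. ⊥ <l 5>`; modulo scalars `N0` is the group of the even sign
changes on the `l i`; the discriminant of `<w 0, .., w 3>` is not a square. -/
structure Four6 {G F V : Type*} [Group G] [Field F] [AddCommGroup V] [Module F V] (N0 : Subgroup G)
    (Q : QuadraticForm F V) (rel : G → (V ≃ₗ[F] V) → Prop) (w : Fin 4 → V) (l : Fin 6 → V) : Prop where
  wQ : ∀ i, Q (w i) ≠ 0
  lQ : ∀ i, Q (l i) ≠ 0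
  ww : ∀ i j, i ≠ j → polar Q (w i) (w j) = 0
  ll : ∀ i j, i ≠ j → polar Q (l i) (l j) = 0
  wl : ∀ i j, polar Q (w i) (l j) = 0
  act : ∀ n ∈ N0, ∃ M : V ≃ₗ[F] V, rel n M ∧ (∀ i, M (w i) = w i) ∧ ∀ i, M (l i) = l i ∨ M (l i) = -l i
  all : ∀ d : Fin 6 → ℤˣ, ∏ i, d i = 1 →
    ∃ n ∈ N0, ∃ M : V ≃ₗ[F] V, rel n M ∧ (∀ i, M (w i) = w i) ∧ ∀ i, M (l i) = ((d i : ℤ) : F) • l i
  nsq : ¬ IsSquare (∏ i, Q (w i))

end Cfsg.Agent.H738.E6
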