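import Mathlib

/-!
# Simultaneous diagonalization of commuting involutory isometries (helper738)

`exists_diag` : a commuting set `T` of isometries `M`, `M² = 1`, of a nondegenerate quadratic space (char ≠ 2) has an
orthogonal basis of common eigenvectors.
-/

set_option autoImplicit false

open QuadraticMap Module

namespace Cfsg.Agent.H738.E6

variable {F V : Type*} [Field F] [AddCommGroup V] [Module F V] {Q : QuadraticForm F V}

/-- nondegenerate subspace -/
def ND (Q : QuadraticForm F V) (U : Submodule F V) : Prop := ∀ u ∈ U, (∀ w ∈ U, polar Q u w = 0) → u = 0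

theorem polar_iso {M : V ≃ₗ[F] V} (h : ∀ v, Q (M v) = Q v) (v w : V) : polar Q (M v) (M w) = polar Q v w := by
  simp only [polar, ← map_add, h]

theorem exists_nonsing (h2 : (2 : F) ≠ 0) {U : Submodule F V} (hU : U ≠ ⊥) (hN : ND Q U) : ∃ v ∈ U, Q v ≠ 0 := by
  by_contra hcon
  push Not at hcon
  apply hU
  rw [eq_bot_iff]
  intro u hu
  rw [Submodule.mem_bot]
  apply hN u hu
  intro w hw
  simp only [polar, hcon _ (U.add_mem hu hw), hcon u hu, hcon w hw, sub_zero]

theorem exists_eigen (h2 : (2 : F) ≠ 0) [FiniteDimensional F V] {T : Set (V ≃ₗ[F] V)}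
    (hiso : ∀ M ∈ T, ∀ v, Q (M v) = Q v) (hinv : ∀ M ∈ T, M * M = 1) (hcomm : ∀ M ∈ T, ∀ N ∈ T, M * N = N * M) :
    ∀ (n : ℕ) (U : Submodule F V), finrank F U = n → U ≠ ⊥ → ND Q U → (∀ M ∈ T, ∀ u ∈ U, M u ∈ U) →
      ∃ v ∈ U, Q v ≠ 0 ∧ ∀ M ∈ T, M v = v ∨ M v = -v := by
  intro n
  induction n using Nat.strong_induction_on with
  | _ n ih =>
  intro U hfr hU hN hT
  by_cases h : ∀ M ∈ T, (∀ u ∈ U, M u = u) ∨ (∀ u ∈ U, M u = -u)
  · obtain ⟨v, hv, hv'⟩ := exists_nonsing h2 hU hN
    refine ⟨v, hv, hv', ?_⟩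
    intro M hM
    rcases h M hM with h1 | h1
    · exact Or.inl (h1 v hv)
    · exact Or.inr (h1 v hv)
  · push Not at h
    obtain ⟨M, hM, ⟨u₁, hu₁, h₁⟩, u₂, hu₂, h₂⟩ := h
    have hMM : ∀ v, M (M v) = v := fun v => by
      have := congrArg (fun f : V ≃ₗ[F] V => f v) (hinv M hM)
      exact this
    let U' : Submodule F V :=
      { carrier := {u | u ∈ U ∧ M u = u}
        add_mem' := by
          rintro a b ⟨ha, ha'⟩ ⟨hb, hb'⟩
          exact ⟨U.add_mem ha hb, by rw [map_add, ha', hb']⟩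
        zero_mem' := ⟨U.zero_mem, map_zero _⟩
        smul_mem' := by
          rintro c a ⟨ha, ha'⟩
          exact ⟨U.smul_mem c ha, by rw [map_smul, ha']⟩ }
    have hle : U' ≤ U := fun u hu => hu.1
    have hlt : U' < U := by
      refine lt_of_le_of_ne hle ?_
      intro he
      have : u₁ ∈ U' := by rw [he]; exact hu₁
      exact h₁ this.2
    have hU' : U' ≠ ⊥ := by
      intro he
      have h3 : u₂ + M u₂ ∈ U' := ⟨U.add_mem hu₂ (hT M hM u₂ hu₂), by rw [map_add, hMM, add_comm]⟩
      rw [he, Submodule.mem_bot] at h3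
      apply h₂
      rw [eq_neg_iff_add_eq_zero, add_comm]
      exact h3
    have hN' : ND Q U' := by
      rintro w ⟨hw, hMw⟩ hp
      apply hN w hw
      intro u hu
      have h3 : polar Q w (u + M u) = 0 := by
        apply hp
        exact ⟨U.add_mem hu (hT M hM u hu), by rw [map_add, hMM, add_comm]⟩
      have h4 : polar Q w (M u) = polar Q w u := by
        have := polar_iso (hiso M hM) w u
        rwa [hMw] at this
      rw [polar_add_right, h4, ← two_mul] at h3
      rcases mul_eq_zero.1 h3 with h5 | h5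
      · exact absurd h5 h2
      · exact h5
    have hT' : ∀ N ∈ T, ∀ u ∈ U', N u ∈ U' := by
      rintro N hN1 u ⟨hu, hMu⟩
      refine ⟨hT N hN1 u hu, ?_⟩
      have h3 := congrArg (fun f : V ≃ₗ[F] V => f u) (hcomm M hM N hN1)
      simp only [LinearEquiv.mul_apply] at h3
      rw [h3, hMu]
    obtain ⟨v, hv, hv', hv''⟩ := ih (finrank F U') (by rw [← hfr]; exact Submodule.finrank_lt_finrank_of_lt hlt) U' rfl
      hU' hN' hT'
    exact ⟨v, hle hv, hv', hv''⟩

theorem exists_diag_sub (h2 : (2 : F) ≠ 0) [FiniteDimensional F V] {T : Set (V ≃ₗ[F] V)}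
    (hiso : ∀ M ∈ T, ∀ v, Q (M v) = Q v) (hinv : ∀ M ∈ T, M * M = 1) (hcomm : ∀ M ∈ T, ∀ N ∈ T, M * N = N * M) :
    ∀ (n : ℕ) (U : Submodule F V), finrank F U = n → ND Q U → (∀ M ∈ T, ∀ u ∈ U, M u ∈ U) →
      ∃ e : Fin n → V, (∀ i, e i ∈ U) ∧ (∀ i, Q (e i) ≠ 0) ∧ (∀ i j, i ≠ j → polar Q (e i) (e j) = 0) ∧
        ∀ M ∈ T, ∀ i, M (e i) = e i ∨ M (e i) = -e i := by
  intro n
  induction n with
  | zero =>
    intro U _ _ _
    exact ⟨Fin.elim0, fun i => i.elim0, fun i => i.elim0, fun i => i.elim0, fun M _ i => i.elim0⟩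
  | succ n ih =>
    intro U hfr hN hT
    have hU : U ≠ ⊥ := by
      rintro rfl
      rw [finrank_bot] at hfr
      omega
    obtain ⟨v, hv, hQv, hMv⟩ := exists_eigen h2 hiso hinv hcomm _ U rfl hU hN hT
    have hvv : polar Q v v = 2 * Q v := by
      have : polar Q v v = Q (v + v) - Q v - Q v := rfl
      rw [this, ← two_smul F v, QuadraticMap.map_smul, smul_eq_mul]
      ring
    have hvv0 : polar Q v v ≠ 0 := by
      rw [hvv]
      exact mul_ne_zero h2 hQv
    let φ : U →ₗ[F] F := (polarBilin Q v).comp U.subtype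
    have hφ : ∀ u : U, φ u = polar Q v u := fun u => rfl
    have hsurj : LinearMap.range φ = ⊤ := by
      rw [LinearMap.range_eq_top]
      intro c
      refine ⟨(c / polar Q v v) • ⟨v, hv⟩, ?_⟩
      rw [map_smul, hφ, smul_eq_mul]
      exact div_mul_cancel₀ c hvv0
    have hker : finrank F (LinearMap.ker φ) = n := by
      have := LinearMap.finrank_range_add_finrank_ker φ
      rw [hsurj, finrank_top, finrank_self, hfr] at this
      omega
    let U' : Submodule F V := (LinearMap.ker φ).map U.subtype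
    have hmem : ∀ w, w ∈ U' ↔ w ∈ U ∧ polar Q v w = 0 := by
      intro w
      constructor
      · rintro ⟨u, hu, rfl⟩
        exact ⟨u.2, hu⟩
      · rintro ⟨hw, hw'⟩
        exact ⟨⟨w, hw⟩, hw', rfl⟩
    have hfr' : finrank F U' = n := by
      rw [← hker]
      exact Submodule.finrank_map_subtype_eq U (LinearMap.ker φ)
    have hN' : ND Q U' := by
      intro w hw hp
      obtain ⟨hwU, hvw⟩ := (hmem w).1 hw
      apply hN w hwU
      intro u hu
      set a := polar Q v u / polar Q v v with ha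
      have h1 : u - a • v ∈ U' := by
        rw [hmem]
        refine ⟨U.sub_mem hu (U.smul_mem a hv), ?_⟩
        rw [polar_sub_right, polar_smul_right, ha, smul_eq_mul, div_mul_cancel₀ _ hvv0, sub_self]
      have h3 := hp _ h1
      rw [polar_sub_right, polar_smul_right, polar_comm Q w v, hvw, smul_zero, sub_zero] at h3
      exact h3
    have hT' : ∀ M ∈ T, ∀ u ∈ U', M u ∈ U' := by
      intro M hM u hu
      obtain ⟨huU, hvu⟩ := (hmem u).1 hu
      rw [hmem]
      refine ⟨hT M hM u huU, ?_⟩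
      have h1 := polar_iso (hiso M hM) v u
      rcases hMv M hM with h3 | h3
      · rw [h3] at h1
        rw [h1, hvu]
      · rw [h3, polar_neg_left, hvu, neg_eq_zero] at h1
        exact h1
    obtain ⟨e, he, heQ, heo, heM⟩ := ih U' hfr' hN' hT'
    refine ⟨Fin.cons v e, ?_, ?_, ?_, ?_⟩
    · intro i
      refine Fin.cases ?_ (fun j => ?_) i
      · exact hv
      · exact ((hmem _).1 (he j)).1
    · intro i
      refine Fin.cases ?_ (fun j => ?_) i
      · exact hQv
      · exact heQ j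
    · intro i j
      refine Fin.cases ?_ (fun i' => ?_) i
      · refine Fin.cases (fun h => absurd rfl h) (fun j' _ => ?_) j
        exact ((hmem _).1 (he j')).2
      · refine Fin.cases (fun _ => ?_) (fun j' h => ?_) j
        · rw [Fin.cons_zero, Fin.cons_succ, polar_comm]
          exact ((hmem _).1 (he i')).2
        · exact heo i' j' (fun h' => h (by rw [h']))
    · intro M hM i
      refine Fin.cases ?_ (fun j => ?_) i
      · exact hMv M hM
      · exact heM M hM j

/-- **Simultaneous diagonalization** -/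
theorem exists_diag (h2 : (2 : F) ≠ 0) [FiniteDimensional F V] (hQ : ∀ v, (∀ w, polar Q v w = 0) → v = 0)
    {T : Set (V ≃ₗ[F] V)} (hiso : ∀ M ∈ T, ∀ v, Q (M v) = Q v) (hinv : ∀ M ∈ T, M * M = 1)
    (hcomm : ∀ M ∈ T, ∀ N ∈ T, M * N = N * M) {n : ℕ} (hn : finrank F V = n) :
    ∃ e : Fin n → V, (∀ i, Q (e i) ≠ 0) ∧ (∀ i j, i ≠ j → polar Q (e i) (e j) = 0) ∧
      ∀ M ∈ T, ∀ i, M (e i) = e i ∨ M (e i) = -e i := by
  obtain ⟨e, -, h1, h3, h4⟩ := exists_diag_sub (Q := Q) h2 hiso hinv hcomm n ⊤ (by rw [finrank_top, hn])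
    (fun u _ h => hQ u fun w => h w trivial) (fun _ _ _ _ => trivial)
  exact ⟨e, h1, h3, h4⟩

section basis

variable {n : ℕ} {e : Fin n → V}

theorem polar_self_ne (h2 : (2 : F) ≠ 0) {v : V} (hv : Q v ≠ 0) : polar Q v v ≠ 0 := by
  have h1 : polar Q v v = Q (v + v) - Q v - Q v := rfl
  rw [h1, ← two_smul F v, QuadraticMap.map_smul, smul_eq_mul]
  have h3 : 2 * 2 * Q v - Q v - Q v = 2 * Q v := by ring
  rw [h3]
  exact mul_ne_zero h2 hv

theorem linInd (h2 : (2 : F) ≠ 0) (hQ : ∀ i, Q (e i) ≠ 0) (ho : ∀ i j, i ≠ j → polar Q (e i) (e j) = 0) :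
    LinearIndependent F e := by
  rw [linearIndependent_iff']
  intro s g hg i hi
  have h1 : polar Q (e i) (∑ j ∈ s, g j • e j) = g i * polar Q (e i) (e i) := by
    have h3 : polar Q (e i) (∑ j ∈ s, g j • e j) = ∑ j ∈ s, g j * polar Q (e i) (e j) := by
      have h4 := map_sum (polarBilin Q (e i)) (fun j => g j • e j) s
      simp only [polarBilin_apply_apply, polar_smul_right, smul_eq_mul] at h4
      exact h4
    rw [h3]
    refine Finset.sum_eq_single i ?_ ?_
    · intro j _ hj
      rw [ho i j hj.symm, mul_zero]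
    · intro h; exact absurd hi h
  rw [hg] at h1
  have h3 : polar Q (e i) 0 = 0 := by
    have := polar_smul_right Q (0 : F) (e i) 0
    rw [zero_smul, zero_smul] at this
    exact this
  rw [h3] at h1
  rcases mul_eq_zero.1 h1.symm with h4 | h4
  · exact h4
  · exact absurd h4 (polar_self_ne h2 (hQ i))

end basis


end Cfsg.Agent.H738.E6
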