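import Mathlib
import Cfsg.Agent.H738.E6.Diag

/-!
# Diagonal sign changes of an orthogonal basis (helper738)
-/

set_option autoImplicit false

open QuadraticMap Module

namespace Cfsg.Agent.H738.E6

variable {F V : Type*} [Field F] [AddCommGroup V] [Module F V] {Q : QuadraticForm F V} {ι : Type*} [Fintype ι]
  [DecidableEq ι]

theorem two_mul_Q (v : V) : 2 * Q v = polar Q v v := by
  have h1 : polar Q v v = Q (v + v) - Q v - Q v := rfl
  rw [h1, ← two_smul F v, QuadraticMap.map_smul, smul_eq_mul]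
  ring

/-- an endomorphism preserving the values of the polar form on a basis is an isometry -/
theorem iso_of_basis (h2 : (2 : F) ≠ 0) (b : Basis ι F V) (M : V ≃ₗ[F] V)
    (h : ∀ i j, polar Q (M (b i)) (M (b j)) = polar Q (b i) (b j)) : ∀ v, Q (M v) = Q v := by
  have h1 : (polarBilin Q).compl₁₂ (M : V →ₗ[F] V) (M : V →ₗ[F] V) = polarBilin Q := by
    refine b.ext fun i => b.ext fun j => ?_
    exact h i j
  intro v
  have h3 : polar Q (M v) (M v) = polar Q v v := congrArg (fun f => f v v) h1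
  rw [← two_mul_Q, ← two_mul_Q] at h3
  exact mul_left_cancel₀ h2 h3

/-- the cast `ℤˣ → Fˣ` -/
noncomputable def sg (F : Type*) [Field F] : ℤˣ →* Fˣ := Units.map ((Int.castRingHom F : ℤ →+* F) : ℤ →* F)

theorem sg_one : sg F 1 = 1 := map_one _

theorem sg_val (u : ℤˣ) : ((sg F u : Fˣ) : F) = ((u : ℤ) : F) := rfl

theorem sg_cases (u : ℤˣ) : (u = 1 ∧ ((sg F u : Fˣ) : F) = 1) ∨ (u = -1 ∧ ((sg F u : Fˣ) : F) = -1) := by
  rcases Int.units_eq_one_or u with rfl | rfl
  · left; exact ⟨rfl, by rw [sg_val]; simp⟩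
  · right; exact ⟨rfl, by rw [sg_val]; simp⟩

theorem sg_sq (u : ℤˣ) : ((sg F u : Fˣ) : F) * (sg F u : Fˣ) = 1 := by
  rcases sg_cases (F := F) u with ⟨-, h⟩ | ⟨-, h⟩ <;> rw [h] <;> ring

theorem sg_inj (h2 : (2 : F) ≠ 0) {u v : ℤˣ} (h : ((sg F u : Fˣ) : F) = (sg F v : Fˣ)) : u = v := by
  have h1 : (1 : F) ≠ -1 := by
    intro h1
    apply h2
    have : (1 : F) + 1 = 0 := by nth_rewrite 2 [h1]; ring
    rw [← this]; ring
  rcases sg_cases (F := F) u with ⟨rfl, hu⟩ | ⟨rfl, hu⟩ <;> rcases sg_cases (F := F) v with ⟨rfl, hv⟩ | ⟨rfl, hv⟩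
  · rfl
  · rw [hu, hv] at h; exact absurd h h1
  · rw [hu, hv] at h; exact absurd h.symm h1
  · rfl

/-- the diagonal map -/
noncomputable def dg (b : Basis ι F V) : (ι → ℤˣ) →* (V ≃ₗ[F] V) where
  toFun ε := b.equiv (b.unitsSMul fun i => sg F (ε i)) (Equiv.refl ι)
  map_one' := by
    apply LinearEquiv.toLinearMap_injective
    refine b.ext fun i => ?_
    rw [LinearEquiv.coe_coe, LinearEquiv.coe_coe, Basis.equiv_apply, Equiv.refl_apply, Basis.unitsSMul_apply,
      Pi.one_apply, sg_one, one_smul]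
    rfl
  map_mul' ε δ := by
    apply LinearEquiv.toLinearMap_injective
    refine b.ext fun i => ?_
    rw [LinearEquiv.coe_coe, LinearEquiv.coe_coe, LinearEquiv.mul_apply, Basis.equiv_apply, Basis.equiv_apply,
      Equiv.refl_apply, Basis.unitsSMul_apply, Basis.unitsSMul_apply, Units.smul_def, Units.smul_def, map_smul,
      Basis.equiv_apply, Equiv.refl_apply, Basis.unitsSMul_apply, Units.smul_def, smul_smul, Pi.mul_apply, map_mul,
      Units.val_mul, mul_comm]

theorem dg_apply (b : Basis ι F V) (ε : ι → ℤˣ) (i : ι) : dg b ε (b i) = ((sg F (ε i) : Fˣ) : F) • b i := by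
  change b.equiv (b.unitsSMul fun i => sg F (ε i)) (Equiv.refl ι) (b i) = _
  rw [Basis.equiv_apply, Equiv.refl_apply, Basis.unitsSMul_apply, Units.smul_def]

theorem dg_det (b : Basis ι F V) (ε : ι → ℤˣ) :
    LinearMap.det (dg b ε : V →ₗ[F] V) = ((sg F (∏ i, ε i) : Fˣ) : F) := by
  have h1 : LinearMap.toMatrix b b (dg b ε : V →ₗ[F] V) = Matrix.diagonal fun i => ((sg F (ε i) : Fˣ) : F) := by
    ext i j
    rw [LinearMap.toMatrix_apply, LinearEquiv.coe_coe, dg_apply, map_smul, Finsupp.smul_apply, b.repr_self,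
      Finsupp.single_apply, Matrix.diagonal_apply]
    by_cases h : i = j
    · subst h; simp
    · rw [if_neg (fun h' => h h'.symm), if_neg h, smul_zero]
  rw [← LinearMap.det_toMatrix b, h1, Matrix.det_diagonal, map_prod, Units.coe_prod]

theorem dg_iso (h2 : (2 : F) ≠ 0) (b : Basis ι F V) (ho : ∀ i j, i ≠ j → polar Q (b i) (b j) = 0) (ε : ι → ℤˣ) :
    ∀ v, Q (dg b ε v) = Q v := by
  refine iso_of_basis h2 b _ fun i j => ?_
  rw [dg_apply, dg_apply, polar_smul_left, polar_smul_right]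
  by_cases h : i = j
  · subst h
    rw [smul_eq_mul, smul_eq_mul, ← mul_assoc, sg_sq, one_mul]
  · rw [ho i j h, smul_zero, smul_zero]

theorem dg_inj (h2 : (2 : F) ≠ 0) (b : Basis ι F V) : Function.Injective (dg b) := by
  intro ε δ h
  funext i
  have h1 := congrArg (fun f : V ≃ₗ[F] V => f (b i)) h
  simp only [dg_apply] at h1
  apply sg_inj h2
  have h3 : (((sg F (ε i) : Fˣ) : F) - (sg F (δ i) : Fˣ)) • b i = 0 := by rw [sub_smul, h1, sub_self]
  rcases smul_eq_zero.1 h3 with h4 | h4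
  · exact sub_eq_zero.1 h4
  · exact absurd h4 (b.ne_zero i)

/-- a linear map given by signs on the basis -/
theorem eq_dg (b : Basis ι F V) {M : V ≃ₗ[F] V} (h : ∀ i, M (b i) = b i ∨ M (b i) = -b i) : ∃ ε, M = dg b ε := by
  classical
  refine ⟨fun i => if M (b i) = b i then 1 else -1, ?_⟩
  apply LinearEquiv.toLinearMap_injective
  refine b.ext fun i => ?_
  rw [LinearEquiv.coe_coe, LinearEquiv.coe_coe, dg_apply]
  by_cases h1 : M (b i) = b i
  · rw [if_pos h1, h1, sg_val]; simp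
  · rw [if_neg h1, sg_val]
    rcases h i with h3 | h3
    · exact absurd h3 h1
    · rw [h3]; simp

/-- scalar multiples of diagonal maps -/
theorem dg_neg (b : Basis ι F V) (ε : ι → ℤˣ) (v : V) : dg b (-ε) v = (-1 : F) • dg b ε v := by
  have h1 : ((dg b (-ε) : V ≃ₗ[F] V) : V →ₗ[F] V) = (-1 : F) • (dg b ε : V →ₗ[F] V) := by
    refine b.ext fun i => ?_
    rw [LinearEquiv.coe_coe, dg_apply, LinearMap.smul_apply, LinearEquiv.coe_coe, dg_apply, Pi.neg_apply]
    rcases sg_cases (F := F) (ε i) with ⟨h, h'⟩ | ⟨h, h'⟩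
    · rw [h', h]; simp [sg_val]
    · rw [h', h]; simp [sg_val]
  exact congrArg (fun f : V →ₗ[F] V => f v) h1

end Cfsg.Agent.H738.E6
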